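import Groth.Agent.H96.S0002.PushCoh
import Groth.Agent.H67.DevGen2
import Groth.Agent.H6.HomShQC

/-!
# (COH), Noetherian form: `π_* L` is coherent given S0038 and coherence of twists
-/

set_option autoImplicit false
set_option linter.style.haveILetI false
set_option linter.unusedSectionVars false
set_option linter.unusedVariables false
universe u
open CategoryTheory CategoryTheory.Limits AlgebraicGeometry TopologicalSpace Opposite

namespace Groth.Agent.H96.COH

/-- `(jV_* O_W)(m)` is coherent, given that twisting preserves coherence (hypothesis `htw`,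
helper86's `isCoh_twistBy`). -/
theorem isCoh_twistPush (N : ℕ) (B : Type u) [CommRing B] {W : Scheme.{u}}
    (j : W ⟶ CohB1.ProjSpace N B) [IsClosedImmersion j] (m : ℤ)
    (htw : ∀ (F : (CohB1.ProjSpace N B).Modules), Coh.IsCoh F →
      Coh.IsCoh (Twist.twistBy (CohB1.polyGrading N B) F m)) :
    Coh.IsCoh (twistPush N B j m) :=
  htw _ (Groth.Agent.H67.Dev.isCoh_push_closed j (Groth.Agent.H6.HomSh.isCoh_structureModule W))

/-- **(COH), Noetherian form.**  `Y` locally Noetherian, `π : Z' ⟶ Y` qcqs, `L` quasi-coherent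
on `Z'` such that over every affine open `V ⊆ Y` there is a closed immersion
`jV : π⁻¹V ⟶ P^N_{Γ(Y,V)}` over `V` with `L|_{π⁻¹V} ≅ jV^* O(m)`.  Given finiteness of `H⁰` of
coherent modules on projective space over Noetherian rings (`h38`, the statement of S0038 in
degree `0`) and that twisting preserves coherence (`htw`), `π_* L` is coherent. -/
theorem isCoh_pushforward_noeth {Y Z' : Scheme.{u}} [IsLocallyNoetherian Y] (π : Z' ⟶ Y)
    [QuasiCompact π] [QuasiSeparated π] (L : Z'.Modules) [L.IsQuasicoherent]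
    (h38 : ∀ (n : ℕ) (R : Type u) [CommRing R] [IsNoetherianRing R]
      (M : (CohB1.ProjSpace n R).Modules), Coh.IsCoh M →
      Module.Finite R (Coh.HH (CohB1.ProjSpace n R) M 0))
    (htw : ∀ (n : ℕ) (R : Type u) [CommRing R] [IsNoetherianRing R]
      (F : (CohB1.ProjSpace n R).Modules) (m : ℤ), Coh.IsCoh F →
      Coh.IsCoh (Twist.twistBy (CohB1.polyGrading n R) F m))
    (h : ∀ (V : Y.Opens) (hV : IsAffineOpen V), ∃ (N : ℕ)
      (jV : (π ⁻¹ᵁ V).toScheme ⟶ CohB1.ProjSpace N Γ(Y, V)),
      IsClosedImmersion jV ∧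
      jV ≫ CohB1.ProjSpace.toSpec N Γ(Y, V) = (π ∣_ V) ≫ hV.isoSpec.hom ∧
      ∃ m : ℤ,
        Nonempty ((Scheme.Modules.pullback (π ⁻¹ᵁ V).ι).obj L ≅
          (Scheme.Modules.pullback jV).obj (Twist.twistProjSpace N Γ(Y, V) m))) :
    Coh.IsCoh ((Scheme.Modules.pushforward π).obj L) := by
  refine isCoh_pushforward π L fun V hV => ?_
  obtain ⟨N, jV, hcl, hj, m, he⟩ := h V hV
  haveI := hcl
  haveI : IsNoetherianRing Γ(Y, V) := IsLocallyNoetherian.component_noetherian ⟨V, hV⟩
  refine ⟨N, jV, hcl, hj, m, he, ?_⟩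
  exact h38 N Γ(Y, V) _ (isCoh_twistPush N Γ(Y, V) jV m fun F hF => htw N Γ(Y, V) F m hF)

end Groth.Agent.H96.COH
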