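import Groth.Agent.H5.ProjFormulaIso
import Groth.Agent.H18.TwistTensor2
import Groth.Prelude.Def_SecTwist
import Groth.Prelude.Def_Twist2

/-!
# (PF) Projection formula for a closed immersion, unit case

For a closed immersion `j : W ⟶ P` and an `O_P`-module `N`:
`j_* j^* N ≅ (j_* O_W) ⊗ N`.  In particular for `P = Proj 𝒜` and `N = O(m)`:
`j_* j^* O(m) ≅ (j_* O_W)(m)` (`Twist.twistBy`).
-/

set_option autoImplicit false
universe u
open CategoryTheory CategoryTheory.Limits AlgebraicGeometry

namespace Groth.Agent.H96.PF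

variable {W P : Scheme.{u}} (j : W ⟶ P)

/-- Left unitor for the prelude tensor product: `O ⊗ L ≅ L`. -/
noncomputable def unitorL (L : W.Modules) : CohB1.tensorMod (Coh.structureModule W) L ≅ L :=
  Groth.Agent.H18.tensorModComm (Coh.structureModule W) L ≪≫ SecTwist.unitorR L

variable [IsClosedImmersion j]

/-- **Projection formula, unit case**: `(j_* O_W) ⊗ N ≅ j_* j^* N` for a closed immersion `j`. -/
noncomputable def pushPullIso (N : P.Modules) :
    CohB1.tensorMod ((Scheme.Modules.pushforward j).obj (Coh.structureModule W)) N ≅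
      (Scheme.Modules.pushforward j).obj ((Scheme.Modules.pullback j).obj N) :=
  Groth.Agent.H5.ProjFormula.projIso j (Coh.structureModule W) N ≪≫
    (Scheme.Modules.pushforward j).mapIso (unitorL ((Scheme.Modules.pullback j).obj N))

/-- (PF) for the twisting sheaves on `Proj 𝒜`: `(j_* O_W)(m) ≅ j_* j^* O(m)`. -/
noncomputable def twistIso {R A : Type u} [CommRing R] [CommRing A] [Algebra R A]
    (𝒜 : ℕ → Submodule R A) [GradedAlgebra 𝒜] {W : Scheme.{u}} (j : W ⟶ Proj 𝒜)
    [IsClosedImmersion j] (m : ℤ) :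
    Twist.twistBy 𝒜 ((Scheme.Modules.pushforward j).obj (Coh.structureModule W)) m ≅
      (Scheme.Modules.pushforward j).obj ((Scheme.Modules.pullback j).obj (Twist.twist 𝒜 m)) :=
  pushPullIso j (Twist.twist 𝒜 m)

/-- More generally: `(j_* M)(m) ≅ j_* (M ⊗ j^* O(m))`. -/
noncomputable def twistIso' {R A : Type u} [CommRing R] [CommRing A] [Algebra R A]
    (𝒜 : ℕ → Submodule R A) [GradedAlgebra 𝒜] {W : Scheme.{u}} (j : W ⟶ Proj 𝒜)
    [IsClosedImmersion j] (M : W.Modules) (m : ℤ) :
    Twist.twistBy 𝒜 ((Scheme.Modules.pushforward j).obj M) m ≅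
      (Scheme.Modules.pushforward j).obj
        (CohB1.tensorMod M ((Scheme.Modules.pullback j).obj (Twist.twist 𝒜 m))) :=
  Groth.Agent.H5.ProjFormula.projIso j M (Twist.twist 𝒜 m)

end Groth.Agent.H96.PF
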