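import Groth.Agent.H96.S0002.ProjFormulaTwist
import Groth.Agent.H18.HH0Sections
import Groth.Agent.H8.QcqsPush
import Groth.Agent.H71.QCoh.PushFT

/-!
# (COH) coherence of `π_* L` from local closed immersions into projective spaces
-/

set_option autoImplicit false
set_option linter.style.haveILetI false
set_option linter.unusedSectionVars false
set_option linter.unusedVariables false
universe u
open CategoryTheory CategoryTheory.Limits AlgebraicGeometry TopologicalSpace Opposite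

namespace Groth.Agent.H96.COH

variable {Y Z' : Scheme.{u}} (π : Z' ⟶ Y) (V : Y.Opens) (hV : IsAffineOpen V)
  (N : ℕ) (jV : (π ⁻¹ᵁ V).toScheme ⟶ CohB1.ProjSpace N Γ(Y, V))
  (hj : jV ≫ CohB1.ProjSpace.toSpec N Γ(Y, V) = (π ∣_ V) ≫ hV.isoSpec.hom)

include hj in
/-- The ring map `B → Γ(P, ⊤) → Γ(W, ⊤)` is the restriction of `π`. -/
lemma ring_compat (b : Γ(Y, V)) :
    (jV.appTop).hom (Coh.toGlobal (CohB1.ProjSpace.toSpec N Γ(Y, V)) b) =
      ((π ∣_ V).appTop).hom (V.topIso.inv.hom b) := by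
  have h1 : (CohB1.ProjSpace.toSpec N Γ(Y, V)).appTop ≫ jV.appTop =
      ((Scheme.ΓSpecIso Γ(Y, V)).hom ≫ V.topIso.inv) ≫ (π ∣_ V).appTop := by
    rw [← Scheme.Hom.comp_appTop, hj, Scheme.Hom.comp_appTop, hV.isoSpec_hom_appTop]
  have h2 := congrArg (fun φ => ((Scheme.ΓSpecIso Γ(Y, V)).inv ≫ φ).hom b) h1
  simp only [Category.assoc, Iso.inv_hom_id_assoc] at h2
  exact h2

include hj in
lemma ring_compat' (b : Γ(Y, V)) :
    (jV.appTop).hom (Coh.toGlobal (CohB1.ProjSpace.toSpec N Γ(Y, V)) b) =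
      ((π ⁻¹ᵁ V).topIso.inv).hom ((π.app V).hom b) := by
  rw [ring_compat π V hV N jV hj b]
  have h0 : (π ∣_ V).appTop =
      V.topIso.hom ≫ π.appLE V (π ⁻¹ᵁ V) le_rfl ≫ (π ⁻¹ᵁ V).topIso.inv := by
    have := Scheme.Hom.resLE_app_top (f := π) (U := V) (V := π ⁻¹ᵁ V) (e := le_rfl)
    rw [Scheme.Hom.resLE_eq_morphismRestrict] at this
    exact this
  have h : V.topIso.inv ≫ (π ∣_ V).appTop = π.app V ≫ (π ⁻¹ᵁ V).topIso.inv := by
    rw [h0, Iso.inv_hom_id_assoc, ← Scheme.Hom.app_eq_appLE]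
  exact congrArg (fun φ => φ.hom b) h

section Sections

variable {X : Scheme.{u}}

/-- Sections of an isomorphism of modules. -/
noncomputable def secEquiv {M M' : X.Modules} (φ : M ≅ M') (U : X.Opens) : Γ(M, U) ≃+ Γ(M', U) where
  toFun := φ.hom.app U
  invFun := φ.inv.app U
  left_inv x := by
    have : (φ.hom ≫ φ.inv).app U x = x := by rw [Iso.hom_inv_id]; rfl
    exact this
  right_inv x := by
    have : (φ.inv ≫ φ.hom).app U x = x := by rw [Iso.inv_hom_id]; rfl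
    exact this
  map_add' x y := map_add (φ.hom.app U).hom x y

lemma secEquiv_smul {M M' : X.Modules} (φ : M ≅ M') (U : X.Opens) (r : Γ(X, U)) (x : Γ(M, U)) :
    secEquiv φ U (r • x) = r • secEquiv φ U x :=
  Scheme.Modules.Hom.app_smul φ.hom r x

/-- Restriction of sections along an equality of opens. -/
noncomputable def eqEquiv (M : X.Modules) {U U' : X.Opens} (h : U = U') : Γ(M, U) ≃+ Γ(M, U') where
  toFun := M.presheaf.map (eqToHom h.symm).op
  invFun := M.presheaf.map (eqToHom h).op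
  left_inv x := by
    subst h
    simp
  right_inv x := by
    subst h
    simp
  map_add' x y := map_add (M.presheaf.map (eqToHom h.symm).op).hom x y

lemma eqEquiv_smul (M : X.Modules) {U U' : X.Opens} (h : U = U') (r : Γ(X, U)) (x : Γ(M, U)) :
    eqEquiv M h (r • x) = (X.presheaf.map (eqToHom h.symm).op).hom r • eqEquiv M h x :=
  Scheme.Modules.map_smul M (eqToHom h.symm) r x

end Sections

/-- Finiteness transfers along an additive equivalence which is semilinear for a ring map. -/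
theorem finite_of_semilinear {R S M M' : Type*} [CommRing R] [CommRing S] [AddCommGroup M]
    [Module R M] [AddCommGroup M'] [Module S M'] [Module R M'] (φ : R →+* S)
    (hRM' : ∀ (r : R) (n : M'), r • n = φ r • n) (e : M ≃+ M')
    (he : ∀ (r : R) (x : M), e (r • x) = φ r • e x) [Module.Finite R M] : Module.Finite R M' := by
  let e' : M ≃ₗ[R] M' :=
    { e with
      map_smul' := fun r x => by
        change e (r • x) = r • e x
        rw [he, hRM'] }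
  exact Module.Finite.equiv e'

/-- The twisted module `(j_* O_W)(m)` on `CohB1.ProjSpace N B`, typed as a module on
`CohB1.ProjSpace N B` (so that the `B`-module structure on its cohomology is found). -/
noncomputable def twistPush (N : ℕ) (B : Type u) [CommRing B] {W : Scheme.{u}}
    (j : W ⟶ CohB1.ProjSpace N B) (m : ℤ) : (CohB1.ProjSpace N B).Modules :=
  Twist.twistBy (CohB1.polyGrading N B)
    ((Scheme.Modules.pushforward j).obj (Coh.structureModule W)) m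

lemma twistPush_def (N : ℕ) (B : Type u) [CommRing B] {W : Scheme.{u}}
    (j : W ⟶ CohB1.ProjSpace N B) (m : ℤ) :
    twistPush N B j m = Twist.twistBy (CohB1.polyGrading N B)
      ((Scheme.Modules.pushforward j).obj (Coh.structureModule W)) m := rfl

/-- (PF) on `CohB1.ProjSpace`. -/
noncomputable def twistIsoPS (N : ℕ) (B : Type u) [CommRing B] {W : Scheme.{u}}
    (j : W ⟶ CohB1.ProjSpace N B) [IsClosedImmersion j] (m : ℤ) :
    twistPush N B j m ≅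
    (Scheme.Modules.pushforward j).obj
      ((Scheme.Modules.pullback j).obj (Twist.twistProjSpace N B m)) :=
  Groth.Agent.H96.PF.pushPullIso j (Twist.twistProjSpace N B m)

variable (L : Z'.Modules) (m : ℤ)
  (e : (Scheme.Modules.pullback (π ⁻¹ᵁ V).ι).obj L ≅
    (Scheme.Modules.pullback jV).obj (Twist.twistProjSpace N Γ(Y, V) m))

/-- The chain of additive equivalences `H⁰(P, (jV_* O)(m)) ≃+ Γ(L, π⁻¹ V)`. -/
noncomputable def chain [IsClosedImmersion jV] :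
    Coh.HH (CohB1.ProjSpace N Γ(Y, V)) (twistPush N Γ(Y, V) jV m) 0 ≃+ Γ(L, π ⁻¹ᵁ V) :=
  (Groth.Agent.H18.HH0.equiv _).trans <|
    (secEquiv (twistIsoPS N Γ(Y, V) jV m) ⊤).trans <|
      (secEquiv e.symm (⊤ : (π ⁻¹ᵁ V).toScheme.Opens)).trans <|
        (secEquiv ((Scheme.Modules.restrictFunctorIsoPullback (π ⁻¹ᵁ V).ι).symm.app L)
          (⊤ : (π ⁻¹ᵁ V).toScheme.Opens)).trans <|
          eqEquiv L (π ⁻¹ᵁ V).ι_image_top

include hj in
lemma chain_smul [IsClosedImmersion jV] (b : Γ(Y, V))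
    (x : Coh.HH (CohB1.ProjSpace N Γ(Y, V)) (twistPush N Γ(Y, V) jV m) 0) :
    chain π V N jV L m e (b • x) = ((π.app V).hom b : Γ(Z', π ⁻¹ᵁ V)) • chain π V N jV L m e x := by
  -- abbreviations
  let r₁ : Γ(CohB1.ProjSpace N Γ(Y, V), ⊤) :=
    Coh.toGlobal (CohB1.ProjSpace.toSpec N Γ(Y, V)) b
  let r₂ : Γ((π ⁻¹ᵁ V).toScheme, ⊤) := (jV.appTop).hom r₁
  let R := (Scheme.Modules.restrictFunctorIsoPullback (π ⁻¹ᵁ V).ι).symm.app L
  let y₁ := Groth.Agent.H18.HH0.equiv (twistPush N Γ(Y, V) jV m) x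
  have h1 : Groth.Agent.H18.HH0.equiv (twistPush N Γ(Y, V) jV m) (b • x) = r₁ • y₁ :=
    Groth.Agent.H18.HH0.equiv_smul _ _ _
  let y₂ := secEquiv (twistIsoPS N Γ(Y, V) jV m) ⊤ y₁
  have h2 : secEquiv (twistIsoPS N Γ(Y, V) jV m) ⊤ (r₁ • y₁) = r₁ • y₂ :=
    secEquiv_smul _ _ _ _
  let y₃ := secEquiv e.symm (⊤ : (π ⁻¹ᵁ V).toScheme.Opens) y₂
  have h3 : secEquiv e.symm (⊤ : (π ⁻¹ᵁ V).toScheme.Opens) (r₁ • y₂) = r₂ • y₃ :=
    secEquiv_smul e.symm (⊤ : (π ⁻¹ᵁ V).toScheme.Opens) r₂ y₂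
  let y₄ := secEquiv R (⊤ : (π ⁻¹ᵁ V).toScheme.Opens) y₃
  have h4 : secEquiv R (⊤ : (π ⁻¹ᵁ V).toScheme.Opens) (r₂ • y₃) = r₂ • y₄ :=
    secEquiv_smul R (⊤ : (π ⁻¹ᵁ V).toScheme.Opens) r₂ y₃
  let y₄' : Γ(L, (π ⁻¹ᵁ V).ι ''ᵁ ⊤) := y₄
  let r₂' : Γ(Z', (π ⁻¹ᵁ V).ι ''ᵁ ⊤) := ((π ⁻¹ᵁ V).ι.appIso ⊤).inv.hom r₂
  have h45 : (r₂ • y₄ : Γ((Scheme.Modules.restrictFunctor (π ⁻¹ᵁ V).ι).obj L,
      (⊤ : (π ⁻¹ᵁ V).toScheme.Opens))) = (r₂' • y₄' : Γ(L, (π ⁻¹ᵁ V).ι ''ᵁ ⊤)) := rfl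
  have hr₂ : r₂' = r₂ := by
    change (((π ⁻¹ᵁ V).ι.appIso ⊤).inv).hom r₂ = r₂
    rw [Scheme.Opens.ι_appIso]
    rfl
  have h5 : eqEquiv L (π ⁻¹ᵁ V).ι_image_top (r₂' • y₄') =
      (Z'.presheaf.map (eqToHom (π ⁻¹ᵁ V).ι_image_top.symm).op).hom r₂' •
        eqEquiv L (π ⁻¹ᵁ V).ι_image_top y₄' :=
    eqEquiv_smul L (π ⁻¹ᵁ V).ι_image_top r₂' y₄'
  have h6 : (Z'.presheaf.map (eqToHom (π ⁻¹ᵁ V).ι_image_top.symm).op).hom r₂ =
      (π.app V).hom b := by
    have := ring_compat' π V hV N jV hj b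
    change (Z'.presheaf.map (eqToHom (π ⁻¹ᵁ V).ι_image_top.symm).op).hom
      ((jV.appTop).hom (Coh.toGlobal (CohB1.ProjSpace.toSpec N Γ(Y, V)) b)) = _
    rw [this]
    have h7 : (π ⁻¹ᵁ V).topIso.inv ≫ (π ⁻¹ᵁ V).topIso.hom = 𝟙 _ := Iso.inv_hom_id _
    exact congrArg (fun φ => φ.hom ((π.app V).hom b)) h7
  calc chain π V N jV L m e (b • x)
      = eqEquiv L (π ⁻¹ᵁ V).ι_image_top (secEquiv R (⊤ : (π ⁻¹ᵁ V).toScheme.Opens)
          (secEquiv e.symm (⊤ : (π ⁻¹ᵁ V).toScheme.Opens)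
            (secEquiv (twistIsoPS N Γ(Y, V) jV m) ⊤
              (Groth.Agent.H18.HH0.equiv (twistPush N Γ(Y, V) jV m) (b • x))))) := rfl
    _ = eqEquiv L (π ⁻¹ᵁ V).ι_image_top (r₂ • y₄) := by rw [h1, h2, h3, h4]
    _ = eqEquiv L (π ⁻¹ᵁ V).ι_image_top (r₂' • y₄') := congrArg _ h45
    _ = _ := by rw [h5, hr₂, h6]; rfl

include hV hj e in
/-- Local finiteness: if `H⁰(P^N_B, (jV_* O)(m))` is a finite `B = Γ(Y, V)`-module, then so is
`Γ(π_* L, V)`, where `L|_{π⁻¹V} ≅ jV^* O(m)`. -/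
theorem finite_sections [IsClosedImmersion jV]
    (hfin : Module.Finite Γ(Y, V)
      (Coh.HH (CohB1.ProjSpace N Γ(Y, V)) (twistPush N Γ(Y, V) jV m) 0)) :
    Module.Finite Γ(Y, V) Γ((Scheme.Modules.pushforward π).obj L, V) := by
  haveI := hfin
  letI : Module Γ(Z', π ⁻¹ᵁ V) Γ((Scheme.Modules.pushforward π).obj L, V) :=
    inferInstanceAs (Module Γ(Z', π ⁻¹ᵁ V) Γ(L, π ⁻¹ᵁ V))
  exact finite_of_semilinear (R := Γ(Y, V)) (S := Γ(Z', π ⁻¹ᵁ V))
    (M' := Γ((Scheme.Modules.pushforward π).obj L, V)) (π.app V).hom (fun _ _ => rfl)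
    (chain π V N jV L m e) (chain_smul π V hV N jV hj L m e)

end Groth.Agent.H96.COH

namespace Groth.Agent.H96.COH

/-- **(COH)** Coherence of `π_* L` from local projective data.

`π : Z' ⟶ Y` quasi-compact quasi-separated, `L` quasi-coherent on `Z'`.  Suppose that for every
affine open `V ⊆ Y` there are a closed immersion `jV : π⁻¹V ⟶ P^N_{Γ(Y,V)}` over `V ≅ Spec Γ(Y,V)`,
an integer `m` with `L|_{π⁻¹V} ≅ jV^* O(m)`, and `H⁰(P^N, (jV_* O)(m))` is a finite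
`Γ(Y,V)`-module.  Then `π_* L` is quasi-coherent of finite type. -/
theorem isCoh_pushforward {Y Z' : Scheme.{u}} (π : Z' ⟶ Y) [QuasiCompact π] [QuasiSeparated π]
    (L : Z'.Modules) [L.IsQuasicoherent]
    (h : ∀ (V : Y.Opens) (hV : IsAffineOpen V), ∃ (N : ℕ)
      (jV : (π ⁻¹ᵁ V).toScheme ⟶ CohB1.ProjSpace N Γ(Y, V)),
      IsClosedImmersion jV ∧
      jV ≫ CohB1.ProjSpace.toSpec N Γ(Y, V) = (π ∣_ V) ≫ hV.isoSpec.hom ∧
      ∃ m : ℤ,
        Nonempty ((Scheme.Modules.pullback (π ⁻¹ᵁ V).ι).obj L ≅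
          (Scheme.Modules.pullback jV).obj (Twist.twistProjSpace N Γ(Y, V) m)) ∧
        Module.Finite Γ(Y, V)
          (Coh.HH (CohB1.ProjSpace N Γ(Y, V)) (twistPush N Γ(Y, V) jV m) 0)) :
    Coh.IsCoh ((Scheme.Modules.pushforward π).obj L) := by
  haveI hq : ((Scheme.Modules.pushforward π).obj L).IsQuasicoherent :=
    Groth.Agent.H8.isQuasicoherent_pushforward_of_qcqs π L
  refine ⟨hq, ?_⟩
  refine Groth.Agent.H71.QCoh.isFiniteType_of_finite_sections_cover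
    ((Scheme.Modules.pushforward π).obj L) (fun V : Y.affineOpens => (V : Y.Opens))
    (iSup_affineOpens_eq_top Y) (fun V => V.2) ?_
  intro V
  obtain ⟨N, jV, hcl, hj, m, ⟨e⟩, hfin⟩ := h V.1 V.2
  haveI := hcl
  exact finite_sections π V.1 V.2 N jV hj L m e hfin

end Groth.Agent.H96.COH
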